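import Mathlib

/-!
# Eigenvalues of elements of symplectic groups over finite fields (helper548, S3442)
-/

set_option autoImplicit false
set_option linter.unusedSectionVars false

namespace Cfsg.Agent.H548.CV

open Matrix Polynomial Module IntermediateField

section Alg

variable {F : Type*} [Field F] [Fintype F] {Ω : Type*} [Field Ω] [Algebra F Ω]

theorem frob_pow_apply {K : Type*} [Field K] [Algebra F K] (i : ℕ) (x : K) :
    (FiniteField.frobeniusAlgHom F K ^ i) x = x ^ Fintype.card F ^ i := by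
  rw [AlgHom.coe_pow, FiniteField.coe_frobeniusAlgHom, pow_iterate]

theorem finite_adjoin {a : Ω} (ha : IsIntegral F a) : Finite F⟮a⟯ := by
  have := IntermediateField.adjoin.finiteDimensional ha
  exact Module.finite_of_finite F

theorem pow_deg {a : Ω} (ha : IsIntegral F a) : a ^ (Fintype.card F ^ (minpoly F a).natDegree) = a := by
  have := IntermediateField.adjoin.finiteDimensional ha
  have := finite_adjoin ha
  have := Fintype.ofFinite F⟮a⟯
  have hc : Fintype.card F⟮a⟯ = Fintype.card F ^ (minpoly F a).natDegree := by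
    rw [Module.card_eq_pow_finrank (K := F), IntermediateField.adjoin.finrank ha]
  have h := FiniteField.pow_card (⟨a, IntermediateField.mem_adjoin_simple_self F a⟩ : F⟮a⟯)
  rw [hc] at h
  exact congrArg Subtype.val h

theorem conj_pow {a b : Ω} (ha : IsIntegral F a) (hb : aeval b (minpoly F a) = 0) (hbK : b ∈ F⟮a⟯) :
    ∃ i < (minpoly F a).natDegree, b = a ^ (Fintype.card F ^ i) := by
  have := IntermediateField.adjoin.finiteDimensional ha
  have := finite_adjoin ha
  let pb := IntermediateField.adjoin.powerBasis ha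
  have hgen : pb.gen = AdjoinSimple.gen F a := IntermediateField.adjoin.powerBasis_gen ha
  have hmp : minpoly F pb.gen = minpoly F a := by rw [hgen]; exact IntermediateField.minpoly_gen F a
  have h0 : aeval (⟨b, hbK⟩ : F⟮a⟯) (minpoly F pb.gen) = 0 := by
    apply Subtype.ext
    rw [hmp]
    have h1 := aeval_algebraMap_apply Ω (⟨b, hbK⟩ : F⟮a⟯) (minpoly F a)
    have h2 : algebraMap F⟮a⟯ Ω ⟨b, hbK⟩ = b := rfl
    rw [h2, hb] at h1
    exact h1.symm
  obtain ⟨⟨i, hi⟩, hφ⟩ := (FiniteField.bijective_frobeniusAlgHom_pow F F⟮a⟯).2 (pb.lift _ h0)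
  rw [IntermediateField.adjoin.finrank ha] at hi
  refine ⟨i, hi, ?_⟩
  have h1 := pb.lift_gen _ h0
  rw [← hφ] at h1
  simp only at h1
  rw [frob_pow_apply, hgen] at h1
  exact (congrArg Subtype.val h1).symm

theorem dvd_of_pow {a : Ω} (ha : IsIntegral F a) {i : ℕ} (h : a ^ (Fintype.card F ^ i) = a) :
    (minpoly F a).natDegree ∣ i := by
  have := IntermediateField.adjoin.finiteDimensional ha
  have := finite_adjoin ha
  let pb := IntermediateField.adjoin.powerBasis ha
  have hgen : pb.gen = AdjoinSimple.gen F a := IntermediateField.adjoin.powerBasis_gen ha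
  rw [← IntermediateField.adjoin.finrank ha, ← FiniteField.orderOf_frobeniusAlgHom F F⟮a⟯]
  apply orderOf_dvd_of_pow_eq_one
  apply pb.algHom_ext
  rw [frob_pow_apply, hgen]
  exact Subtype.ext h

theorem inv_mem_adj {a : Ω} : a⁻¹ ∈ F⟮a⟯ := inv_mem (IntermediateField.mem_adjoin_simple_self F a)

theorem deg_inv {a : Ω} (ha : IsIntegral F a) : (minpoly F a⁻¹).natDegree = (minpoly F a).natDegree := by
  rw [← IntermediateField.adjoin.finrank ha, ← IntermediateField.adjoin.finrank ha.inv]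
  have : F⟮a⁻¹⟯ = F⟮a⟯ := by
    apply le_antisymm
    · rw [IntermediateField.adjoin_simple_le_iff]
      exact inv_mem_adj
    · rw [IntermediateField.adjoin_simple_le_iff]
      have h := inv_mem_adj (F := F) (a := a⁻¹)
      rwa [inv_inv] at h
  rw [this]

/-- **degrees of the eigenvalues**: `a`, `a⁻¹` roots of a polynomial `P ≠ 0` of degree `2m` -/
theorem eig_pow {a : Ω} (ha : IsIntegral F a) (ha0 : a ≠ 0) (ha2 : a ^ 2 ≠ 1) {P : F[X]} (hP : P ≠ 0) {m : ℕ}
    (hd : P.natDegree = 2 * m) (h1 : aeval a P = 0) (h2 : aeval a⁻¹ P = 0) :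
    ∃ e, 1 ≤ e ∧ e ≤ m ∧ (((minpoly F a).natDegree = e ∧ a ^ (Fintype.card F ^ e - 1) = 1) ∨
      ((minpoly F a).natDegree = 2 * e ∧ a ^ (Fintype.card F ^ e + 1) = 1)) := by
  have hpos : 0 < (minpoly F a).natDegree := minpoly.natDegree_pos ha
  have hq : 0 < Fintype.card F := Fintype.card_pos
  by_cases hf : minpoly F a⁻¹ = minpoly F a
  · -- the inverse is a conjugate
    obtain ⟨i, hi, hia⟩ := conj_pow ha (by rw [← hf]; exact minpoly.aeval _ _) (inv_mem_adj (F := F) (a := a))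
    have h3 : a ^ (Fintype.card F ^ (2 * i)) = a := by
      have h4 : a ^ (Fintype.card F ^ (2 * i)) = (a ^ (Fintype.card F ^ i)) ^ (Fintype.card F ^ i) := by
        rw [← pow_mul, ← pow_add, two_mul]
      rw [h4, ← hia, inv_pow, ← hia, inv_inv]
    have h5 := dvd_of_pow ha h3
    have h6 : i ≠ 0 := by
      rintro rfl
      rw [pow_zero, pow_one] at hia
      apply ha2
      rw [pow_two]
      nth_rw 1 [← hia]
      exact inv_mul_cancel₀ ha0
    have h7 : 2 * i = (minpoly F a).natDegree := by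
      obtain ⟨c, hc⟩ := h5
      have hc1 : c < 2 := by
        by_contra hcon
        push Not at hcon
        have : (minpoly F a).natDegree * 2 ≤ (minpoly F a).natDegree * c := Nat.mul_le_mul_left _ hcon
        omega
      have hc0 : c ≠ 0 := by rintro rfl; omega
      have : c = 1 := by omega
      rw [hc, this, mul_one]
    have h8 : (minpoly F a).natDegree ≤ 2 * m := by
      rw [← hd]
      exact natDegree_le_of_dvd (minpoly.dvd F a h1) hP
    refine ⟨i, by omega, by omega, Or.inr ⟨h7.symm, ?_⟩⟩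
    rw [pow_succ, ← hia, inv_mul_cancel₀ ha0]
  · -- two different factors
    have hirr1 := minpoly.irreducible ha
    have hirr2 := minpoly.irreducible ha.inv
    have hcop : IsCoprime (minpoly F a) (minpoly F a⁻¹) := by
      rw [hirr1.coprime_iff_not_dvd]
      intro h3
      apply hf
      exact (eq_of_monic_of_associated (minpoly.monic ha) (minpoly.monic ha.inv)
        (hirr1.associated_of_dvd hirr2 h3)).symm
    have h3 : minpoly F a * minpoly F a⁻¹ ∣ P := hcop.mul_dvd (minpoly.dvd F a h1) (minpoly.dvd F a⁻¹ h2)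
    have h4 := natDegree_le_of_dvd h3 hP
    rw [natDegree_mul hirr1.ne_zero hirr2.ne_zero, deg_inv ha, hd] at h4
    refine ⟨(minpoly F a).natDegree, hpos, by omega, Or.inl ⟨rfl, ?_⟩⟩
    have h5 := pow_deg ha
    have h6 : Fintype.card F ^ (minpoly F a).natDegree = (Fintype.card F ^ (minpoly F a).natDegree - 1) + 1 := by
      have := Nat.pos_of_ne_zero (pow_ne_zero (minpoly F a).natDegree hq.ne')
      omega
    rw [h6, pow_succ] at h5
    exact mul_right_cancel₀ ha0 (h5.trans (one_mul a).symm)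

end Alg

section Mat

variable {F : Type*} [Field F] {n : Type*} [Fintype n] [DecidableEq n] {Ω : Type*} [Field Ω] [Algebra F Ω] [IsAlgClosed Ω]

/-- an element with `x ^ N = 1`, `x ^ N' ≠ 1`, `N` prime to the characteristic, has an eigenvalue with the same
properties -/
theorem exists_root_ne (x : Matrix n n F) {N N' : ℕ} (hN : (N : F) ≠ 0) (hx : x ^ N = 1) (hx' : x ^ N' ≠ 1)
    (hN' : N' ≠ 0) : ∃ a : Ω, aeval a x.charpoly = 0 ∧ a ^ N = 1 ∧ a ^ N' ≠ 1 := by
  classical
  by_contra hcon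
  push Not at hcon
  have h1 : minpoly F x ∣ X ^ N - 1 := minpoly.dvd F x (by simp [hx])
  have hsep : ((minpoly F x).map (algebraMap F Ω)).Separable :=
    ((X_pow_sub_one_separable_iff.2 hN).of_dvd h1).map
  have hmon : ((minpoly F x).map (algebraMap F Ω)).Monic := (minpoly.monic (Matrix.isIntegral x)).map _
  have hne : (X ^ N' - 1 : Polynomial Ω) ≠ 0 := (monic_X_pow_sub_C 1 hN').ne_zero
  have h2 : ((minpoly F x).map (algebraMap F Ω)) ∣ (X ^ N' - 1 : F[X]).map (algebraMap F Ω) := by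
    rw [Polynomial.map_sub, Polynomial.map_pow, map_X, Polynomial.map_one,
      (IsAlgClosed.splits ((minpoly F x).map (algebraMap F Ω))).eq_prod_roots_of_monic hmon,
      Multiset.prod_X_sub_C_dvd_iff_le_roots hne, Multiset.le_iff_subset (nodup_roots hsep)]
    intro a ha
    rw [mem_roots hmon.ne_zero, IsRoot.def, eval_map_algebraMap] at ha
    rw [mem_roots hne, IsRoot.def, eval_sub, eval_pow, eval_X, eval_one, sub_eq_zero]
    refine hcon a ?_ ?_
    · obtain ⟨c, hc⟩ := Matrix.minpoly_dvd_charpoly x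
      rw [hc, map_mul, ha, zero_mul]
    · obtain ⟨c, hc⟩ := h1
      have h3 := congrArg (aeval a) hc
      rw [map_mul, ha, zero_mul, map_sub, map_pow, aeval_X, map_one, sub_eq_zero] at h3
      exact h3
  rw [Polynomial.map_dvd_map'] at h2
  obtain ⟨c, hc⟩ := h2
  have h3 := congrArg (aeval x) hc
  rw [map_mul, minpoly.aeval, zero_mul, map_sub, map_pow, aeval_X, map_one, sub_eq_zero] at h3
  exact hx' h3

/-- the eigenvalues of a power -/
theorem exists_root_pow (x : Matrix n n F) {k : ℕ} (hk : 0 < k) {b : Ω} (hb : aeval b (x ^ k).charpoly = 0) :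
    ∃ a : Ω, aeval a x.charpoly = 0 ∧ a ^ k = b := by
  have key : ∀ (y : Matrix n n F) (c : Ω), aeval c y.charpoly = 0 ↔ c ∈ spectrum Ω (y.map (algebraMap F Ω)) := by
    intro y c
    rw [Matrix.mem_spectrum_iff_isRoot_charpoly, IsRoot.def, Matrix.charpoly_map, eval_map_algebraMap]
  rw [key, Matrix.map_pow] at hb
  rcases isEmpty_or_nonempty n with h | h
  · exfalso
    have h1 : Subsingleton (Matrix n n Ω) := inferInstance
    rw [spectrum.of_subsingleton] at hb
    exact hb
  · rw [spectrum.map_pow_of_pos _ hk] at hb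
    obtain ⟨a, ha, hab⟩ := hb
    exact ⟨a, (key x a).2 ha, hab⟩

end Mat

section Symp

variable {F : Type*} [Field F] {m : Type*} [Fintype m] [DecidableEq m] {Ω : Type*} [Field Ω] [Algebra F Ω]

/-- the eigenvalues of a symplectic matrix are closed under inversion -/
theorem inv_root {x : Matrix (m ⊕ m) (m ⊕ m) F} (hx : x ∈ symplecticGroup m F) {a : Ω} (ha0 : a ≠ 0)
    (ha : aeval a x.charpoly = 0) : aeval a⁻¹ x.charpoly = 0 := by
  have key : ∀ (y : Matrix (m ⊕ m) (m ⊕ m) F) (c : Ω), aeval c y.charpoly =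
      (scalar (m ⊕ m) c - y.map (algebraMap F Ω)).det := by
    intro y c
    rw [← eval_map_algebraMap, ← Matrix.charpoly_map, Matrix.eval_charpoly]
  have hs : ∀ (c : Ω) (v : m ⊕ m → Ω), scalar (m ⊕ m) c *ᵥ v = c • v := by
    intro c v
    rw [scalar_apply]
    funext i
    rw [mulVec_diagonal]
    rfl
  have hJ : (J m F).map (algebraMap F Ω) = J m Ω := by
    rw [J, J, fromBlocks_map]
    congr 1
    · ext i j; simp
    · rw [Matrix.map_neg _ (map_neg (algebraMap F Ω)), Matrix.map_one _ (map_zero _) (map_one _)]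
    · rw [Matrix.map_one _ (map_zero _) (map_one _)]
    · ext i j; simp
  set X := x.map (algebraMap F Ω) with hX
  have e1 : X * J m Ω * Xᵀ = J m Ω := by
    have h1 := congrArg (fun y => y.map (algebraMap F Ω)) (SymplecticGroup.mem_iff.1 hx)
    simp only [Matrix.map_mul, hJ] at h1
    exact h1
  have e2 : Xᵀ * J m Ω * X = J m Ω := by
    have h1 := congrArg (fun y => y.map (algebraMap F Ω)) (SymplecticGroup.mem_iff'.1 hx)
    simp only [Matrix.map_mul, hJ] at h1
    exact h1
  have hJJ : ∀ v : m ⊕ m → Ω, J m Ω *ᵥ (J m Ω *ᵥ v) = -v := by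
    intro v
    rw [mulVec_mulVec, J_squared, neg_mulVec, one_mulVec]
  have hinj : ∀ v w : m ⊕ m → Ω, X *ᵥ v = X *ᵥ w → v = w := by
    intro v w h
    have h1 : J m Ω *ᵥ v = J m Ω *ᵥ w := by
      rw [← e2, ← mulVec_mulVec, ← mulVec_mulVec, ← mulVec_mulVec, ← mulVec_mulVec, h]
    have h2 := hJJ v
    rw [h1, hJJ] at h2
    exact (neg_injective h2).symm
  rw [key] at ha
  rw [← Matrix.charpoly_transpose, key]
  obtain ⟨v, hv, hv1⟩ := Matrix.exists_mulVec_eq_zero_iff.2 ha
  apply Matrix.exists_mulVec_eq_zero_iff.1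
  rw [sub_mulVec, hs, sub_eq_zero] at hv1
  refine ⟨-(J m Ω *ᵥ v), ?_, ?_⟩
  · intro h0
    apply hv
    have h1 := congrArg (fun w => J m Ω *ᵥ w) h0
    simp only [mulVec_neg, hJJ, mulVec_zero, neg_neg] at h1
    exact h1
  · have hw : J m Ω *ᵥ (-(J m Ω *ᵥ v)) = v := by rw [mulVec_neg, hJJ, neg_neg]
    have hT : xᵀ.map (algebraMap F Ω) = Xᵀ := rfl
    rw [sub_mulVec, hs, sub_eq_zero, hT]
    -- `X J Xᵀ w = J w = v = X (a⁻¹ v)`
    have h1 : X *ᵥ (J m Ω *ᵥ (Xᵀ *ᵥ (-(J m Ω *ᵥ v)))) = X *ᵥ (a⁻¹ • v) := by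
      rw [mulVec_mulVec, mulVec_mulVec, e1, hw, mulVec_smul, ← hv1, smul_smul, inv_mul_cancel₀ ha0,
        one_smul]
    have h2 := hinj _ _ h1
    have h3 := congrArg (fun w => J m Ω *ᵥ w) h2
    simp only [hJJ, mulVec_smul] at h3
    rw [smul_neg, ← h3, neg_neg]

end Symp

section Ord

variable {F : Type*} [Field F] [Fintype F] {m : ℕ}

theorem natDegree_cp (x : Matrix (Fin m ⊕ Fin m) (Fin m ⊕ Fin m) F) : x.charpoly.natDegree = 2 * m := by
  rw [Matrix.charpoly_natDegree_eq_dim, Fintype.card_sum, Fintype.card_fin]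
  ring

theorem coe_pow_ne {x : symplecticGroup (Fin m) F} {k : ℕ} (h : x ^ k ≠ 1) :
    (x : Matrix (Fin m ⊕ Fin m) (Fin m ⊕ Fin m) F) ^ k ≠ 1 := by
  intro h1
  apply h
  apply Subtype.ext
  rw [SubmonoidClass.coe_pow, h1]
  rfl

theorem coe_pow_eq {x : symplecticGroup (Fin m) F} {k : ℕ} (h : x ^ k = 1) :
    (x : Matrix (Fin m ⊕ Fin m) (Fin m ⊕ Fin m) F) ^ k = 1 := by
  have h1 := congrArg Subtype.val h
  rw [SubmonoidClass.coe_pow] at h1
  exact h1

theorem cast_pow_ne {r : ℕ} (hrF : (r : F) ≠ 0) (j : ℕ) : ((r ^ j : ℕ) : F) ≠ 0 := by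
  rw [Nat.cast_pow]
  exact pow_ne_zero _ hrF

/-- **`r`-elements of `Sp_2m(q)`**, `r` odd, prime to `q`: the order divides some `q ^ (2 e) - 1`, `e ≤ m`. -/
theorem dvd_of_order_pow {r : ℕ} (hr : r.Prime) (hr2 : r ≠ 2) (hrF : (r : F) ≠ 0) (x : symplecticGroup (Fin m) F)
    {j : ℕ} (hx : orderOf x = r ^ (j + 1)) : ∃ e, 1 ≤ e ∧ e ≤ m ∧ r ^ (j + 1) ∣ Fintype.card F ^ (2 * e) - 1 := by
  have := Fact.mk hr
  have hlt : r ^ j < r ^ (j + 1) := Nat.pow_lt_pow_right hr.one_lt (Nat.lt_succ_self j)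
  have h1 : x ^ r ^ (j + 1) = 1 := by rw [← hx]; exact pow_orderOf_eq_one x
  have h2 : x ^ r ^ j ≠ 1 := by
    intro h
    have := orderOf_dvd_of_pow_eq_one h
    rw [hx] at this
    exact absurd (Nat.le_of_dvd (pow_pos hr.pos j) this) (by omega)
  obtain ⟨a, ha, ha1, ha2⟩ := exists_root_ne (Ω := AlgebraicClosure F)
    (x : Matrix (Fin m ⊕ Fin m) (Fin m ⊕ Fin m) F) (cast_pow_ne hrF (j + 1)) (coe_pow_eq h1) (coe_pow_ne h2)
    (pow_ne_zero _ hr.ne_zero)
  have hord : orderOf a = r ^ (j + 1) := orderOf_eq_prime_pow ha2 ha1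
  have hr3 : 2 < r := lt_of_le_of_ne hr.two_le (Ne.symm hr2)
  have ha0 : a ≠ 0 := by
    rintro rfl
    rw [zero_pow (pow_ne_zero _ hr.ne_zero)] at ha1
    exact zero_ne_one ha1
  have hasq : a ^ 2 ≠ 1 := by
    intro h
    have h3 := orderOf_dvd_of_pow_eq_one h
    rw [hord] at h3
    have h4 : r ∣ 2 := (dvd_pow_self r (by omega)).trans h3
    exact absurd (Nat.le_of_dvd (by norm_num) h4) (by omega)
  obtain ⟨e, he1, he2, h⟩ := eig_pow (Algebra.IsIntegral.isIntegral a)
    ha0 hasq (Matrix.charpoly_monic x.1).ne_zero (natDegree_cp x.1) ha (inv_root x.2 ha0 ha)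
  refine ⟨e, he1, he2, ?_⟩
  have hq : 0 < Fintype.card F := Fintype.card_pos
  have hfac : Fintype.card F ^ (2 * e) - 1 = (Fintype.card F ^ e + 1) * (Fintype.card F ^ e - 1) := by
    have h5 : Fintype.card F ^ (2 * e) = Fintype.card F ^ e * Fintype.card F ^ e := by rw [two_mul, pow_add]
    rw [h5]
    obtain ⟨c, hc⟩ : ∃ c, Fintype.card F ^ e = c + 1 := ⟨Fintype.card F ^ e - 1, by
      have := pow_pos hq e; omega⟩
    rw [hc, Nat.add_sub_cancel]
    have : (c + 1) * (c + 1) = (c + 1 + 1) * c + 1 := by ring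
    rw [this, Nat.add_sub_cancel]
  rw [← hord, hfac]
  rcases h with ⟨-, h⟩ | ⟨-, h⟩
  · exact (orderOf_dvd_of_pow_eq_one h).mul_left _
  · exact (orderOf_dvd_of_pow_eq_one h).mul_right _

/-- **Elements of `Sp_2m(q)` of order divisible by a primitive prime divisor `R` of `q ^ (2m) - 1`**: the order
divides `q ^ m + 1`. -/
theorem dvd_of_primitive {R : ℕ} (hR : R.Prime) (hR2 : R ≠ 2) (hRF : (R : F) ≠ 0)
    (hR1 : ∀ e, 1 ≤ e → e < m → ¬ R ∣ Fintype.card F ^ (2 * e) - 1) (hR3 : ¬ R ∣ Fintype.card F ^ m - 1)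
    (x : symplecticGroup (Fin m) F) (hx0 : 0 < orderOf x) (hx : R ∣ orderOf x) :
    orderOf x ∣ Fintype.card F ^ m + 1 := by
  have := Fact.mk hR
  set n := orderOf x with hn
  have hR4 : 2 < R := lt_of_le_of_ne hR.two_le (Ne.symm hR2)
  obtain ⟨k, hk⟩ := hx
  have hk0 : 0 < k := by
    rcases Nat.eq_zero_or_pos k with h | h
    · rw [h, mul_zero] at hk; omega
    · exact h
  have h1 : (x ^ k) ^ R = 1 := by rw [← pow_mul, mul_comm, ← hk, hn]; exact pow_orderOf_eq_one x
  have h2 : (x ^ k) ^ 1 ≠ 1 := by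
    intro h
    rw [pow_one] at h
    have := Nat.le_of_dvd hk0 (orderOf_dvd_of_pow_eq_one h)
    rw [← hn, hk] at this
    nlinarith [hR.two_le]
  obtain ⟨b, hb, hb1, hb2⟩ := exists_root_ne (Ω := AlgebraicClosure F)
    ((x ^ k : symplecticGroup (Fin m) F) : Matrix (Fin m ⊕ Fin m) (Fin m ⊕ Fin m) F) hRF (coe_pow_eq h1)
    (coe_pow_ne h2) one_ne_zero
  rw [pow_one] at hb2
  have hord : orderOf b = R := orderOf_eq_prime hb1 hb2
  rw [SubmonoidClass.coe_pow] at hb
  obtain ⟨a, ha, hab⟩ := exists_root_pow _ hk0 hb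
  have hb0 : b ≠ 0 := by
    rintro rfl
    rw [zero_pow hR.ne_zero] at hb1
    exact zero_ne_one hb1
  have ha0 : a ≠ 0 := by
    rintro rfl
    rw [zero_pow hk0.ne'] at hab
    exact hb0 hab.symm
  have key : ∀ t : ℕ, a ^ t = 1 → R ∣ t := by
    intro t ht
    rw [← hord]
    apply orderOf_dvd_of_pow_eq_one
    rw [← hab, ← pow_mul, mul_comm, pow_mul, ht, one_pow]
  have hasq : a ^ 2 ≠ 1 := by
    intro h
    exact absurd (Nat.le_of_dvd (by norm_num) (key 2 h)) (by omega)
  have hint : IsIntegral F a := Algebra.IsIntegral.isIntegral a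
  have hmon := Matrix.charpoly_monic x.1
  obtain ⟨e, he1, he2, h⟩ := eig_pow hint ha0 hasq hmon.ne_zero (natDegree_cp x.1) ha (inv_root x.2 ha0 ha)
  have hq : 0 < Fintype.card F := Fintype.card_pos
  have hfac : Fintype.card F ^ (2 * e) - 1 = (Fintype.card F ^ e + 1) * (Fintype.card F ^ e - 1) := by
    have h5 : Fintype.card F ^ (2 * e) = Fintype.card F ^ e * Fintype.card F ^ e := by rw [two_mul, pow_add]
    rw [h5]
    obtain ⟨c, hc⟩ : ∃ c, Fintype.card F ^ e = c + 1 := ⟨Fintype.card F ^ e - 1, by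
      have := pow_pos hq e; omega⟩
    rw [hc, Nat.add_sub_cancel]
    have : (c + 1) * (c + 1) = (c + 1 + 1) * c + 1 := by ring
    rw [this, Nat.add_sub_cancel]
  have hem : e = m := by
    by_contra hne
    apply hR1 e he1 (by omega)
    rw [hfac]
    rcases h with ⟨-, h⟩ | ⟨-, h⟩
    · exact (key _ h).mul_left _
    · exact (key _ h).mul_right _
  subst hem
  rcases h with ⟨-, h⟩ | ⟨hdeg, h⟩
  · exact absurd (key _ h) hR3
  · have h5 : minpoly F a = x.1.charpoly :=
      (eq_of_monic_of_dvd_of_natDegree_le (minpoly.monic hint) hmon (minpoly.dvd F a ha)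
        (by rw [natDegree_cp, hdeg])).symm
    have h6 : x.1.charpoly ∣ X ^ (Fintype.card F ^ e + 1) - 1 := by
      rw [← h5]
      apply minpoly.dvd
      rw [map_sub, map_pow, aeval_X, map_one, h, sub_self]
    obtain ⟨c, hc⟩ := h6
    have h7 := congrArg (aeval x.1) hc
    rw [map_mul, Matrix.aeval_self_charpoly, zero_mul, map_sub, map_pow, aeval_X, map_one, sub_eq_zero] at h7
    apply orderOf_dvd_of_pow_eq_one
    apply Subtype.ext
    rw [SubmonoidClass.coe_pow, h7]
    rfl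

end Ord

end Cfsg.Agent.H548.CV
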