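import Mathlib
import Cfsg.Agent.H229.T.Upper

/-!
# S3442, rows X10 and X11 (`r = 2`): the orders of the elements of `SO_{2d+3}(q)` with a power of primitive prime order (helper548)
-/

set_option autoImplicit false
set_option linter.unusedSectionVars false

namespace Cfsg.Agent.H548.CV

open QuadraticMap Module
open Cfsg.Agent.LieClassical.OrthCore Cfsg.Agent.LieClassical.OrthForms Cfsg.Agent.LieClassical.OrthFinite
open Cfsg.Agent.H160 Cfsg.Agent.H160.QSpin Cfsg.Agent.H160.QDisc Cfsg.Agent.H160.QFinal Cfsg.Agent.H160.QModel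
open Cfsg.Agent.H160.QReal Cfsg.Agent.H160.QSplit Cfsg.Agent.H160.QChar Cfsg.Agent.H160.QRoots
open Cfsg.Agent.H229.T

section Small

variable {F : Type*} [Field F] [Fintype F] {V : Type*} [AddCommGroup V] [Module F V] [FiniteDimensional F V] [Finite V]

theorem fin_aut : Finite (V ≃ₗ[F] V) :=
  Finite.of_injective (fun g : V ≃ₗ[F] V => (g : V → V)) DFunLike.coe_injective

/-- splitting an isometry of determinant one -/
theorem split_det (h2 : (2 : F) ≠ 0) {Q : QuadraticForm F V} (hQ : Nondeg Q) {g : V ≃ₗ[F] V} (hg : g ∈ O Q)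
    (hdet : LinearEquiv.det g = 1) :
    ∃ (n₁ n₂ : ℕ) (Q₁ : QuadraticForm F (Fin n₁ → F)) (Q₂ : QuadraticForm F (Fin n₂ → F))
      (g₁ : (Fin n₁ → F) ≃ₗ[F] (Fin n₁ → F)) (g₂ : (Fin n₂ → F) ≃ₗ[F] (Fin n₂ → F))
      (e : ((Fin n₁ → F) × (Fin n₂ → F)) ≃ₗ[F] V),
      n₁ + n₂ = finrank F V ∧ Nondeg Q₁ ∧ Nondeg Q₂ ∧ g₁ ∈ O Q₁ ∧ g₂ ∈ O Q₂ ∧ g = cj e (pr g₁ g₂) ∧
      (∀ x, g₁ x = x → x = 0) ∧ (en g₂ - 1) ^ n₂ = 0 ∧ Even n₁ := by
  obtain ⟨p, hpF⟩ := CharP.exists F
  have hp : Fact p.Prime := ⟨CharP.char_is_prime F p⟩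
  obtain ⟨n₁, n₂, Q₁, Q₂, g₁, g₂, e, he, hge, hno, hnil⟩ := split hg
  obtain ⟨hQ₁, hQ₂⟩ := nondeg_of_prod (he.symm.nondeg hQ)
  have hprO : pr g₁ g₂ ∈ O (Q₁.prod Q₂) := by
    have := cj_mem_O he.symm hg
    rwa [hge, QUpper.cj_symm_cj] at this
  obtain ⟨hg₁, hg₂⟩ := pr_mem_O_iff.1 hprO
  have hdim : n₁ + n₂ = finrank F V := by
    have := e.finrank_eq
    rw [← this]
    simp
  obtain ⟨a, ha⟩ : ∃ a, n₂ ≤ p ^ a := ⟨n₂, (Nat.lt_pow_self hp.out.one_lt).le⟩
  obtain ⟨b, _, hb⟩ := (Nat.dvd_prime_pow hp.out).1 (orderOf_dvd_of_pow_eq_one (QUpper.unip_pow (p := p) hnil ha))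
  have hg₂el : El Q₂ 1 g₂ := El.of_odd hQ₂ hg₂ (by rw [hb]; exact (odd_p (F := F) h2).pow)
  have hdet₁ : LinearEquiv.det g₁ = 1 := by
    have h3 : LinearEquiv.det g = LinearEquiv.det g₁ * LinearEquiv.det g₂ := by
      rw [hge, det_cj, det_pr]
    rw [hdet, hg₂el.2.1, mul_one] at h3
    exact h3.symm
  refine ⟨n₁, n₂, Q₁, Q₂, g₁, g₂, e, hdim, hQ₁, hQ₂, hg₁, hg₂, hge, hno, hnil, ?_⟩
  have h3 := det_of_no_one hQ₁ hg₁ hno
  rw [← LinearEquiv.coe_det, hdet₁, Units.val_one, finrank_fintype_fun_eq_card, Fintype.card_fin] at h3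
  rw [← Nat.not_odd_iff_even]
  intro ho
  rw [ho.neg_one_pow] at h3
  exact QMain.neg_one_ne h2 h3.symm

/-- isometries of a plane without eigenvalue `1` -/
theorem two_pow (h2 : (2 : F) ≠ 0) {Q : QuadraticForm F V} (hQ : Nondeg Q) (hV : finrank F V = 2)
    {g : V ≃ₗ[F] V} (hg : g ∈ O Q) (h1 : ∀ v, g v = v → v = 0) :
    g ^ (Fintype.card F - 1) = 1 ∨ g ^ (Fintype.card F + 1) = 1 := by
  classical
  obtain ⟨p, hpF⟩ := CharP.exists F
  have hp : Fact p.Prime := ⟨CharP.char_is_prime F p⟩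
  have hq0 : 0 < Fintype.card F := Fintype.card_pos
  by_cases hm1 : ∀ v, g v = -v → v = 0
  · have hInv := inv_rts hQ hg h1 hm1
    obtain ⟨R, hR⟩ : ∃ R, R = rts (en g) := ⟨_, rfl⟩
    rw [← hR] at hInv
    have hcard : R.card = 2 := by rw [hR, card_rts, hV]
    obtain ⟨μ, hμ⟩ := Multiset.card_pos_iff_exists_mem.1 (by omega : 0 < R.card)
    obtain ⟨d, hd⟩ := exists_isMin (frob_inj F) hInv hμ
    obtain ⟨R', k1, k2, k3, k4, k5⟩ := peel (frob_inj F) hInv hd
    have hcnt : 1 ≤ R.count μ := Multiset.one_le_count_iff_mem.2 hμ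
    have hdpos := hd.pos
    have h6 : 2 * d ≤ R.count μ * (2 * d) := Nat.le_mul_of_pos_left _ hcnt
    have hd1 : d = 1 := by omega
    subst hd1
    have h10 : R'.card = 0 := by omega
    have h11 : R.count μ = 1 := by omega
    rw [Multiset.card_eq_zero] at h10
    have hRorb : rts (en g) = (orb (Fintype.card F) μ 1).val := by
      rw [← hR, k1, h11, h10, one_smul, add_zero]
    have hbd : ∀ i, μ ^ i = 1 → g ^ i = 1 := by
      intro i hi
      have hB : Bd (rts (en g)) 1 i := by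
        refine ⟨fun x => ?_, fun x hx => ?_⟩
        · rw [hRorb]
          exact Multiset.nodup_iff_count_le_one.1 (orb _ μ 1).nodup x
        · rw [hRorb] at hx
          exact ex_orb hx hi
      have h3 : en g ^ (i * p ^ 0) = 1 := pow_eq_one_of_bd (p := p) (c := 0) (by convert hB) (by simp)
      apply en_inj
      rw [en_pow]
      rw [pow_zero, mul_one] at h3
      exact h3
    rcases hd.pow hq0 with h | h
    · rw [pow_one] at h
      exact Or.inl (hbd _ h)
    · rw [pow_one] at h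
      exact Or.inr (hbd _ h)
  · push Not at hm1
    obtain ⟨v, hv, hv0⟩ := hm1
    left
    have hkO : LinearEquiv.neg F * g ∈ O Q := (O Q).mul_mem (neg_mem_O Q) hg
    have hdet : LinearEquiv.det (LinearEquiv.neg F * g) = 1 := by
      rw [map_mul, det_neg_even (by rw [hV]; exact even_two), one_mul]
      apply Units.ext
      rw [LinearEquiv.coe_det, Units.val_one]
      have := det_of_no_one hQ hg h1
      rwa [hV, neg_one_sq] at this
    obtain ⟨n₁, n₂, Q₁, Q₂, k₁, k₂, e, hdim, hQ₁, hQ₂, hk₁, hk₂, hke, hno, hnil, hev⟩ :=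
      split_det h2 hQ hkO hdet
    rw [hV] at hdim
    have hn₁ : n₁ = 0 := by
      obtain ⟨c, hc⟩ := hev
      by_contra hne
      have e1 : n₂ = 0 := by omega
      subst e1
      apply hv0
      have h3 : ((LinearEquiv.neg F : V ≃ₗ[F] V) * g) v = v := by
        show -(g v) = v
        rw [hv, neg_neg]
      obtain ⟨x, rfl⟩ := e.surjective v
      rw [hke, cj_apply', pr_apply] at h3
      have h4 := e.injective h3
      have h5 : x.1 = 0 := hno _ (congrArg Prod.fst h4)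
      have h6 : x = 0 := Prod.ext h5 (Subsingleton.elim _ _)
      rw [h6, map_zero]
    subst hn₁
    have hn₂ : n₂ = 2 := by omega
    subst hn₂
    have h3 := unip_even h2 hQ₂ hk₂ (n := 1) (by simp) odd_one hnil
    rw [pow_one, sub_eq_zero] at h3
    have h4 : k₂ = 1 := en_inj h3
    have h5 : k₁ = 1 := LinearEquiv.ext fun x => Subsingleton.elim _ _
    have h6 : LinearEquiv.neg F * g = 1 := by rw [hke, h4, h5, pr_one, cj_one]
    have h7 : g = LinearEquiv.neg F := by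
      have h8 : (LinearEquiv.neg F : V ≃ₗ[F] V) * (LinearEquiv.neg F * g) = g := by
        rw [← mul_assoc, ← pow_two, QUpper.neg_pow_two, one_mul]
      rw [h6, mul_one] at h8
      exact h8.symm
    obtain ⟨t, ht⟩ := QUpper.card_odd_eq (F := F) h2
    rw [h7, ht, Nat.add_sub_cancel, pow_mul, QUpper.neg_pow_two, one_pow]

/-- isometries of determinant one of a three dimensional space -/
theorem three_pow {p : ℕ} [hp : Fact p.Prime] [CharP F p] (h2 : (2 : F) ≠ 0) {Q : QuadraticForm F V} (hQ : Nondeg Q) (hV : finrank F V = 3)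
    {g : V ≃ₗ[F] V} (hg : g ∈ O Q) (hdet : LinearEquiv.det g = 1) :
    g ^ (p * (Fintype.card F - 1)) = 1 ∨ g ^ (p * (Fintype.card F + 1)) = 1 := by
  obtain ⟨n₁, n₂, Q₁, Q₂, k₁, k₂, e, hdim, hQ₁, hQ₂, hk₁, hk₂, hke, hno, hnil, hev⟩ :=
    split_det h2 hQ hg hdet
  rw [hV] at hdim
  obtain ⟨c, hc⟩ := hev
  have hp3 : 3 ≤ p := by
    have h3 := hp.out.two_le
    rcases Nat.lt_or_ge 2 p with h | h
    · exact h
    · exfalso
      have h4 : p = 2 := by omega
      have h5 := odd_p (p := p) (F := F) h2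
      rw [h4] at h5
      exact absurd h5 (by decide)
  have hgp : ∀ i, k₁ ^ i = 1 → k₂ ^ i = 1 → g ^ i = 1 := by
    intro i h3 h4
    rw [hke, ← cj_pow, pr_pow, h3, h4, pr_one, cj_one]
  rcases Nat.eq_zero_or_pos c with h0 | h0
  · left
    have e1 : n₁ = 0 := by omega
    have e2 : n₂ = 3 := by omega
    subst e1
    subst e2
    apply hgp
    · exact LinearEquiv.ext fun x => Subsingleton.elim _ _
    · have h3 := QUpper.unip_pow (p := p) (c := 1) hnil (by rw [pow_one]; exact hp3)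
      rw [pow_one] at h3
      rw [pow_mul, h3, one_pow]
  · have e1 : n₁ = 2 := by omega
    have e2 : n₂ = 1 := by omega
    subst e1
    subst e2
    rw [pow_one, sub_eq_zero] at hnil
    have h4 : k₂ = 1 := en_inj hnil
    rcases two_pow h2 hQ₁ (by simp) hk₁ hno with h | h
    · left
      exact hgp _ (by rw [mul_comm, pow_mul, h, one_pow]) (by rw [h4, one_pow])
    · right
      exact hgp _ (by rw [mul_comm, pow_mul, h, one_pow]) (by rw [h4, one_pow])

/-- **The upper bound.** -/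
theorem upper_three {p : ℕ} [hp : Fact p.Prime] [CharP F p] (h2 : (2 : F) ≠ 0) {Q : QuadraticForm F V} (hQ : Nondeg Q) {d R : ℕ} (hd : 2 ≤ d)
    (hV : finrank F V = 2 * d + 3) (hR : R.Prime) (hR2 : R ≠ 2) (hRd : R ∣ Fintype.card F ^ d + 1)
    (hprim : ∀ m, R ∣ Fintype.card F ^ m - 1 ↔ 2 * d ∣ m) {g : V ≃ₗ[F] V} (hg : g ∈ O Q)
    (hdet : LinearEquiv.det g = 1) (ho : R ∣ orderOf g) :
    orderOf g ∣ (Fintype.card F ^ d + 1).lcm (p * (Fintype.card F - 1)) ∨
      orderOf g ∣ (Fintype.card F ^ d + 1).lcm (p * (Fintype.card F + 1)) := by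
  classical
  have hq0 : 0 < Fintype.card F := Fintype.card_pos
  have hfin : Finite (V ≃ₗ[F] V) := fin_aut
  have hpos : orderOf g ≠ 0 := (orderOf_pos g).ne'
  have hRF : ¬ R ∣ Fintype.card F := not_dvd_two_mul hR hq0 (by omega : 1 ≤ d) (Or.inr hRd)
  have hRp : R ≠ p := by
    rintro rfl
    exact hRF (QMain.p_dvd_card (F := F) (p := R))
  have hprim' : ∀ m, 0 < m → (R ∣ Fintype.card F ^ m - 1 ∨ R ∣ Fintype.card F ^ m + 1) → d ∣ m := by
    intro m _ h
    rcases h with h | h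
    · exact (Nat.dvd_mul_left d 2).trans ((hprim m).1 h)
    · have h3 : R ∣ Fintype.card F ^ (2 * m) - 1 := by
        have h4 := Nat.sq_sub_sq (Fintype.card F ^ m) 1
        rw [← pow_mul, one_pow, mul_comm m 2] at h4
        rw [h4]
        exact Dvd.dvd.mul_right h _
      exact Nat.dvd_of_mul_dvd_mul_left (by norm_num) ((hprim _).1 h3)
  have ha : orderOf (g ^ (orderOf g / R)) = R := orderOf_pow_orderOf_div hpos ho
  obtain ⟨Q₁, Q₂, a₁, e, hQ₁, hQ₂, he, hae, ha₁, ha₁r, hno⟩ :=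
    split_a (p := p) hQ (by omega : 1 ≤ d) (t := 3) (by omega) hV hR hR2 hRp hprim' ((O Q).pow_mem hg (orderOf g / R)) ha
  obtain ⟨g₁, g₂, hgeq', -⟩ := exists_pr (a := a₁) (g := cj e.symm g) hno (by
    have h3 : pr a₁ (1 : (Fin 3 → F) ≃ₗ[F] (Fin 3 → F)) = cj e.symm (g ^ (orderOf g / R)) := by
      rw [hae, QUpper.cj_symm_cj]
    rw [h3, ← cj_mul, ← cj_mul, ← pow_succ', ← pow_succ])
  have hgeq : g = cj e (pr g₁ g₂) := by
    rw [← hgeq']
    have := QUpper.cj_symm_cj e.symm g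
    rw [LinearEquiv.symm_symm] at this
    exact this.symm
  have hprO : pr g₁ g₂ ∈ O (Q₁.prod Q₂) := by
    rw [← hgeq']
    exact cj_mem_O he.symm hg
  obtain ⟨hg₁, hg₂⟩ := pr_mem_O_iff.1 hprO
  have hpowg : ∀ i, g ^ i = cj e (pr (g₁ ^ i) (g₂ ^ i)) := by
    intro i
    conv_lhs => rw [hgeq, ← cj_pow, pr_pow]
  have hinj : ∀ {x x' : (Fin (2 * d) → F) ≃ₗ[F] (Fin (2 * d) → F)} {y y' : (Fin 3 → F) ≃ₗ[F] (Fin 3 → F)},
      cj e (pr x y) = cj e (pr x' y') → x = x' ∧ y = y' := by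
    intro x x' y y' h
    have h3 : pr x y = pr x' y' := (cjEquiv e).injective h
    have h4 : ((x, y) : _ × _) = (x', y') := prHom_injective h3
    exact Prod.mk.inj h4
  have hga : g₁ ^ (orderOf g / R) = a₁ ∧ g₂ ^ (orderOf g / R) = 1 := by
    apply hinj
    rw [← hpowg, hae]
  have hdim₁ : finrank F (Fin (2 * d) → F) = 2 * d := by simp
  have hdim₂ : finrank F (Fin 3 → F) = 3 := by simp
  -- the roots of `g₁`
  obtain ⟨μ, hμmin, hμR⟩ := exists_orb hQ₁ (by omega : 1 ≤ d) hdim₁ hR hR2 hprim' hg₁ (N := orderOf g / R)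
    (by rw [hga.1]; exact ha₁r) (by rw [hga.1]; exact hno)
  have hbd : ∀ i, μ ^ i = 1 → g₁ ^ i = 1 := by
    intro i hi
    have hB : Bd (rts (en g₁)) 1 i := by
      refine ⟨fun x => ?_, fun x hx => ?_⟩
      · rw [hμR]
        exact Multiset.nodup_iff_count_le_one.1 (orb _ μ d).nodup x
      · rw [hμR] at hx
        exact ex_orb hx hi
    have h3 : en g₁ ^ (i * p ^ 0) = 1 := pow_eq_one_of_bd (p := p) (c := 0) (by convert hB) (by simp)
    apply en_inj
    rw [en_pow]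
    rw [pow_zero, mul_one] at h3
    exact h3
  have hg₁q : g₁ ^ (Fintype.card F ^ d + 1) = 1 := by
    rcases hμmin.pow hq0 with h3 | h3
    · exfalso
      have h4 := hbd _ h3
      have h5 : a₁ ^ (Fintype.card F ^ d - 1) = 1 := by
        rw [← hga.1, ← pow_mul, mul_comm (orderOf g / R), pow_mul, h4, one_pow]
      have h6 := Nat.dvd_gcd (orderOf_dvd_of_pow_eq_one h5) (orderOf_dvd_of_pow_eq_one ha₁r)
      have h7 : Nat.Coprime (Fintype.card F ^ d - 1) R := by
        rw [Nat.coprime_comm, Nat.Prime.coprime_iff_not_dvd hR]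
        intro h8
        have h9 := Nat.le_of_dvd (by omega) ((hprim d).1 h8)
        omega
      rw [h7] at h6
      have h8 : a₁ = 1 := orderOf_eq_one_iff.1 (Nat.dvd_one.1 h6)
      have h9 : (fun _ => (1 : F) : Fin (2 * d) → F) = 0 := hno _ (by rw [h8]; rfl)
      exact one_ne_zero (congrFun h9 ⟨0, by omega⟩)
    · exact hbd _ h3
  -- determinants
  have hno₁ : ∀ v, g₁ v = v → v = 0 := by
    intro v hv
    apply hno
    rw [← hga.1]
    have : ∀ k, (g₁ ^ k) v = v := by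
      intro k
      induction k with
      | zero => rfl
      | succ k ih =>
        rw [pow_succ]
        show (g₁ ^ k) (g₁ v) = v
        rw [hv, ih]
    exact this _
  have hd₁ : LinearEquiv.det g₁ = 1 := by
    apply Units.ext
    rw [LinearEquiv.coe_det]
    have h3 := det_of_no_one hQ₁ hg₁ hno₁
    rw [hdim₁, pow_mul, neg_one_sq, one_pow] at h3
    exact h3
  have hd₂ : LinearEquiv.det g₂ = 1 := by
    have h3 := hdet
    rw [hgeq, det_cj, det_pr, hd₁, one_mul] at h3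
    exact h3
  have hord : orderOf g = (orderOf g₁).lcm (orderOf g₂) := by
    rw [hgeq, orderOf_cj, orderOf_pr]
  have h1 := orderOf_dvd_of_pow_eq_one hg₁q
  rw [hord]
  rcases three_pow (p := p) h2 hQ₂ hdim₂ hg₂ hd₂ with h | h
  · left
    exact Nat.lcm_dvd (h1.trans (Nat.dvd_lcm_left _ _)) ((orderOf_dvd_of_pow_eq_one h).trans (Nat.dvd_lcm_right _ _))
  · right
    exact Nat.lcm_dvd (h1.trans (Nat.dvd_lcm_left _ _)) ((orderOf_dvd_of_pow_eq_one h).trans (Nat.dvd_lcm_right _ _))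

end Small

end Cfsg.Agent.H548.CV
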