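import Mathlib
import Cfsg.Agent.H229.T.Om
import Cfsg.Agent.H548.CV.OrUp

/-!
# S3442, rows X10 and X11 (`r = 2`): a Frobenius group `q^(2d) : lcm (q^d + 1, q - 1)` in `Ω_{2d+3}(q)` (helper548)
-/

set_option autoImplicit false
set_option linter.unusedSectionVars false

namespace Cfsg.Agent.H548.CV

open QuadraticMap Module
open Cfsg.Agent.LieClassical.OrthCore Cfsg.Agent.LieClassical.OrthForms Cfsg.Agent.LieClassical.OrthFinite
open Cfsg.Agent.H160 Cfsg.Agent.H160.QSpin Cfsg.Agent.H160.QDisc Cfsg.Agent.H160.QFinal Cfsg.Agent.H160.QModel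
open Cfsg.Agent.H160.QReal Cfsg.Agent.H160.QSplit Cfsg.Agent.H160.QChar Cfsg.Agent.H160.QRoots
open Cfsg.Agent.H229.T

section Plane

variable (F : Type*) [Field F]

/-- the hyperbolic plane -/
noncomputable def hpl : QuadraticForm F (F × F) :=
  LinearMap.BilinMap.toQuadraticMap
    (LinearMap.mk₂ F (fun x y : F × F => x.1 * y.2)
      (fun x x' y => by simp only [Prod.fst_add]; ring)
      (fun c x y => by simp only [Prod.smul_fst, smul_eq_mul]; ring)
      (fun x y y' => by simp only [Prod.snd_add]; ring)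
      (fun c x y => by simp only [Prod.smul_snd, smul_eq_mul]; ring))

variable {F}

theorem hpl_apply (x : F × F) : hpl F x = x.1 * x.2 := rfl

theorem polar_hpl (x y : F × F) : polar (hpl F) x y = x.1 * y.2 + x.2 * y.1 := by
  simp only [QuadraticMap.polar, hpl_apply, Prod.fst_add, Prod.snd_add]
  ring

theorem nondeg_hpl : Nondeg (hpl F) := by
  intro x hx
  have h1 := hx (1, 0)
  have h2 := hx (0, 1)
  rw [polar_hpl] at h1 h2
  simp only [mul_zero, mul_one, zero_add, add_zero] at h1 h2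
  exact Prod.ext h2 h1

/-- the split torus of the plane -/
def tr (ζ : Fˣ) : (F × F) ≃ₗ[F] (F × F) where
  toFun x := (ζ * x.1, (ζ⁻¹ : Fˣ) * x.2)
  map_add' x y := by simp only [Prod.fst_add, Prod.snd_add, mul_add]; rfl
  map_smul' c x := by
    simp only [Prod.smul_fst, Prod.smul_snd, smul_eq_mul, RingHom.id_apply, Prod.smul_mk]
    ext <;> ring
  invFun x := ((ζ⁻¹ : Fˣ) * x.1, ζ * x.2)
  left_inv x := by simp
  right_inv x := by simp

theorem tr_apply (ζ : Fˣ) (x : F × F) : tr ζ x = (ζ * x.1, (ζ⁻¹ : Fˣ) * x.2) := rfl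

theorem tr_pow (ζ : Fˣ) (i : ℕ) : tr ζ ^ i = tr (ζ ^ i) := by
  induction i with
  | zero =>
    apply LinearEquiv.ext
    intro x
    rw [pow_zero, pow_zero, tr_apply]
    simp
  | succ i ih =>
    apply LinearEquiv.ext
    intro x
    rw [pow_succ, ih]
    show tr (ζ ^ i) (tr ζ x) = tr (ζ ^ (i + 1)) x
    rw [tr_apply, tr_apply, tr_apply, pow_succ, mul_inv, Units.val_mul, Units.val_mul]
    ext
    · simp only; ring
    · simp only; ring

theorem tr_eq_one {ζ : Fˣ} (h : tr ζ = 1) : ζ = 1 := by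
  have h1 := congrArg (fun g : (F × F) ≃ₗ[F] (F × F) => (g (1, 0)).1) h
  apply Units.ext
  simpa [tr_apply] using h1

theorem tr_one : tr (1 : Fˣ) = 1 := by
  have := tr_pow (1 : Fˣ) 0
  rw [pow_zero, pow_zero] at this
  exact this.symm

theorem tr_mem_O (ζ : Fˣ) : tr ζ ∈ O (hpl F) := by
  intro x
  rw [hpl_apply, hpl_apply, tr_apply]
  simp only
  have : (ζ : F) * ((ζ⁻¹ : Fˣ) : F) = 1 := Units.mul_inv ζ
  linear_combination (x.1 * x.2) * this

theorem hpl_one_neg (ζ : Fˣ) : hpl F (1, -(ζ : F)) ≠ 0 := by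
  rw [hpl_apply]
  simp

theorem tr_eq (ζ : Fˣ) : tr ζ = refl (hpl F) (1, -((1 : Fˣ) : F)) (hpl_one_neg 1) * refl (hpl F) (1, -(ζ : F)) (hpl_one_neg ζ) := by
  have hz : (ζ : F) ≠ 0 := ζ.ne_zero
  apply LinearEquiv.ext
  intro x
  show tr ζ x = refl (hpl F) (1, -((1 : Fˣ) : F)) (hpl_one_neg 1) (refl (hpl F) (1, -(ζ : F)) (hpl_one_neg ζ) x)
  rw [refl_apply, refl_apply, tr_apply, polar_hpl, polar_hpl, hpl_apply, hpl_apply, Units.val_inv_eq_inv_val, Units.val_one]
  ext
  · simp only [Prod.fst_sub, Prod.snd_sub, Prod.smul_fst, Prod.smul_snd, smul_eq_mul]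
    field_simp
    ring
  · simp only [Prod.fst_sub, Prod.snd_sub, Prod.smul_fst, Prod.smul_snd, smul_eq_mul]
    field_simp
    ring

theorem el_tr [Fintype F] [DecidableEq F] (h2 : (2 : F) ≠ 0) (ζ : Fˣ) {s : ℤˣ} (hs : (s : ℤ) = quadraticChar F (ζ : F)) :
    El (hpl F) s (tr ζ) := by
  refine ⟨tr_mem_O ζ, ?_, ?_⟩
  · rw [tr_eq, map_mul, det_refl, det_refl]; simp
  · have h3 : (⟨tr ζ, tr_mem_O ζ⟩ : O (hpl F)) =
        ⟨refl (hpl F) (1, -((1 : Fˣ) : F)) (hpl_one_neg 1), refl_mem_O (hpl_one_neg 1)⟩ *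
          ⟨refl (hpl F) (1, -(ζ : F)) (hpl_one_neg ζ), refl_mem_O (hpl_one_neg ζ)⟩ := Subtype.ext (tr_eq ζ)
    rw [h3, map_mul]
    apply Units.ext
    rw [Units.val_mul, spin_refl_int h2, spin_refl_int h2, hs, hpl_apply, hpl_apply, one_mul, one_mul, neg_mul_neg,
      ← map_mul, Units.val_one]
    congr 1
    ring

end Plane

section Siegel

variable {F K W : Type*} [Field F] [AddCommGroup K] [Module F K] [AddCommGroup W] [Module F W]

/-- Siegel transformations -/
noncomputable def sgL (P : QuadraticForm F K) (W : Type*) [AddCommGroup W] [Module F W] (b : K) :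
    (K × ((F × F) × W)) →ₗ[F] (K × ((F × F) × W)) where
  toFun v := (v.1 + v.2.1.2 • b, ((v.2.1.1 - polar P v.1 b - v.2.1.2 * P b, v.2.1.2), v.2.2))
  map_add' x y := by
    ext
    · simp only [Prod.fst_add, Prod.snd_add, add_smul]; abel
    · simp only [Prod.fst_add, Prod.snd_add, polar_add_left]; ring
    · rfl
    · rfl
  map_smul' c x := by
    ext
    · simp only [Prod.smul_fst, Prod.smul_snd, RingHom.id_apply, smul_add, smul_smul, smul_eq_mul]
    · simp only [Prod.smul_fst, Prod.smul_snd, RingHom.id_apply, smul_eq_mul, polar_smul_left]; ring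
    · rfl
    · rfl

theorem sgL_apply (P : QuadraticForm F K) (b : K) (v : K × ((F × F) × W)) :
    sgL P W b v = (v.1 + v.2.1.2 • b, ((v.2.1.1 - polar P v.1 b - v.2.1.2 * P b, v.2.1.2), v.2.2)) := rfl

theorem sgL_add (P : QuadraticForm F K) (b c : K) (v : K × ((F × F) × W)) :
    sgL P W (b + c) v = sgL P W b (sgL P W c v) := by
  rw [sgL_apply, sgL_apply, sgL_apply]
  ext
  · simp only [smul_add]; abel
  · simp only [polar_add_right, polar_add_left, polar_smul_left, smul_eq_mul]
    have h1 : P (b + c) = P b + P c + polar P c b := by rw [Q_add, polar_comm]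
    rw [h1]
    ring
  · rfl
  · rfl

theorem sgL_zero (P : QuadraticForm F K) (v : K × ((F × F) × W)) : sgL P W 0 v = v := by
  rw [sgL_apply]
  ext
  · simp
  · simp
  · rfl
  · rfl

/-- as an automorphism -/
noncomputable def sgE (P : QuadraticForm F K) (W : Type*) [AddCommGroup W] [Module F W] (b : K) :
    (K × ((F × F) × W)) ≃ₗ[F] (K × ((F × F) × W)) where
  toLinearMap := sgL P W b
  invFun := sgL P W (-b)
  left_inv v := by
    show sgL P W (-b) (sgL P W b v) = v
    rw [← sgL_add, neg_add_cancel, sgL_zero]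
  right_inv v := by
    show sgL P W b (sgL P W (-b) v) = v
    rw [← sgL_add, add_neg_cancel, sgL_zero]

theorem sgE_apply (P : QuadraticForm F K) (b : K) (v : K × ((F × F) × W)) :
    sgE P W b v = (v.1 + v.2.1.2 • b, ((v.2.1.1 - polar P v.1 b - v.2.1.2 * P b, v.2.1.2), v.2.2)) := rfl

theorem sgE_add (P : QuadraticForm F K) (b c : K) : sgE P W (b + c) = sgE P W b * sgE P W c :=
  LinearEquiv.ext fun v => sgL_add P b c v

theorem sgE_zero (P : QuadraticForm F K) : sgE P W 0 = 1 := LinearEquiv.ext fun v => sgL_zero P v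

theorem sgE_inj (P : QuadraticForm F K) {b c : K} (h : sgE P W b = sgE P W c) : b = c := by
  have h1 := congrArg (fun g : (K × ((F × F) × W)) ≃ₗ[F] (K × ((F × F) × W)) => (g (0, ((0, 1), 0))).1) h
  simpa [sgE_apply] using h1

theorem sgE_mem_O (P : QuadraticForm F K) (Q₃ : QuadraticForm F W) (b : K) :
    sgE P W b ∈ O (P.prod ((hpl F).prod Q₃)) := by
  intro v
  rw [Qpr_apply, Qpr_apply, Qpr_apply, Qpr_apply, hpl_apply, hpl_apply, sgE_apply]
  simp only
  rw [Q_add, QuadraticMap.map_smul, polar_smul_right, smul_eq_mul]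
  ring

theorem sgE_pow (P : QuadraticForm F K) (b : K) (i : ℕ) : sgE P W b ^ i = sgE P W (i • b) := by
  induction i with
  | zero => rw [pow_zero, zero_smul, sgE_zero]
  | succ i ih => rw [pow_succ, ih, succ_nsmul, sgE_add]

/-- conjugation by a torus element -/
theorem conj_sgE (P : QuadraticForm F K) {g : K ≃ₗ[F] K} (hg : g ∈ O P) (ζ : Fˣ) (b : K) :
    pr g (pr (tr ζ) (1 : W ≃ₗ[F] W)) * sgE P W b = sgE P W ((ζ : F) • g b) * pr g (pr (tr ζ) 1) := by
  apply LinearEquiv.ext
  intro v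
  show pr g (pr (tr ζ) 1) (sgE P W b v) = sgE P W ((ζ : F) • g b) (pr g (pr (tr ζ) 1) v)
  have hz : ((ζ⁻¹ : Fˣ) : F) * (ζ : F) = 1 := Units.inv_mul ζ
  rw [pr_apply, pr_apply, sgE_apply, sgE_apply, pr_apply, pr_apply, tr_apply, tr_apply]
  ext
  · simp only [map_add, map_smul, smul_smul]
    congr 2
    linear_combination -(v.2.1.2) * hz
  · simp only [polar_smul_right, polar_map hg, QuadraticMap.map_smul, smul_eq_mul, mem_O.1 hg]
    linear_combination ((ζ : F) * v.2.1.2 * P b) * hz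
  · rfl
  · rfl

end Siegel

section Core

/-- **The nonsplit torus and its spinor sign.** -/
theorem exists_core {F : Type*} [Field F] [Fintype F] [DecidableEq F] (h2 : (2 : F) ≠ 0) {d R : ℕ} (hd : 2 ≤ d)
    (hR : R.Prime) (hR2 : R ≠ 2) (hRd : R ∣ Fintype.card F ^ d + 1)
    (hprim : ∀ m, R ∣ Fintype.card F ^ m - 1 ↔ 2 * d ∣ m) :
    ∃ (L : Type) (_ : Field L) (_ : Algebra F L) (_ : Finite L) (P : QuadraticForm F L) (z : Lˣ),
      finrank F L = 2 * d ∧ Nondeg P ∧ orderOf z = Fintype.card F ^ d + 1 ∧ El P (-1) (ml F L z) := by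
  classical
  obtain ⟨p, hpF⟩ := CharP.exists F
  have hp : Fact p.Prime := ⟨CharP.char_is_prime F p⟩
  have : NeZero (2 * d) := ⟨by omega⟩
  obtain ⟨q, hq⟩ : ∃ q, q = Fintype.card F := ⟨_, rfl⟩
  let L := FiniteField.Extension F p (2 * d)
  have hfr : finrank F L = 2 * d := FiniteField.finrank_extension F p (2 * d)
  have hcard : Nat.card L = q ^ (2 * d) := by
    rw [FiniteField.natCard_extension, Nat.card_eq_fintype_card, hq]
  obtain ⟨σ, hσ⟩ : ∃ σ : L ≃ₐ[F] L, ∀ x : L, σ x = x ^ (q ^ d) := by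
    refine ⟨FiniteField.Extension.frob F p (2 * d) ^ d, fun x => ?_⟩
    have := FiniteField.Extension.frob_iterate_apply F p (2 * d) d (x := x)
    rw [Nat.card_eq_fintype_card, ← hq] at this
    exact this
  have hq1 : 1 < q := hq ▸ Fintype.one_lt_card
  obtain ⟨ζ, hζ⟩ := exists_gen (L := L) hcard
  have hqd : 1 < q ^ d := Nat.one_lt_pow (by omega) hq1
  have hfac : q ^ (2 * d) - 1 = (q ^ d - 1) * (q ^ d + 1) := by
    have := Nat.sq_sub_sq (q ^ d) 1
    rw [← pow_mul, one_pow, mul_comm d 2] at this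
    rw [this, mul_comm]
  have hσσ : ∀ x : L, σ (σ x) = x := by
    intro x
    rw [hσ, hσ, ← pow_mul, ← pow_add, ← two_mul]
    have := Fintype.ofFinite L
    have h3 := FiniteField.pow_card x
    rw [← Nat.card_eq_fintype_card, hcard] at h3
    exact h3
  let B : LinearMap.BilinForm F L := LinearMap.mk₂ F (fun x y => Algebra.trace F L (x * σ y))
    (fun x x' y => by simp only [add_mul, map_add])
    (fun c x y => by simp only [smul_mul_assoc, map_smul])
    (fun x y y' => by simp only [map_add, mul_add])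
    (fun c x y => by simp only [map_smul, mul_smul_comm])
  have hB : ∀ x y, B x y = Algebra.trace F L (x * σ y) := fun x y => rfl
  have htr : ∀ x : L, (∀ y : L, Algebra.trace F L (x * y) = 0) → x = 0 := by
    intro x hx
    exact (traceForm_nondegenerate F L).1 x hx
  have hsymm : ∀ x y, B x y = B y x := by
    intro x y
    rw [hB, hB, ← Algebra.trace_eq_of_algEquiv σ (x * σ y), map_mul, hσσ, mul_comm (σ x) y]
  have hQ : Nondeg (qf B) := by
    refine nondeg_qf h2 hsymm ?_
    intro x hx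
    apply htr
    intro y
    have := hx (σ y)
    rw [hB, hσσ] at this
    exact this
  let z : Lˣ := ζ ^ (q ^ d - 1)
  have hzord : orderOf z = q ^ d + 1 := by
    have h4 := orderOf_pow_of_dvd (x := ζ) (n := q ^ d - 1) (by omega) (by rw [hζ, hfac]; exact Dvd.intro _ rfl)
    rw [h4, hζ, hfac, Nat.mul_div_cancel_left _ (by omega)]
  have hzz : (z : L) * σ z = 1 := by
    rw [hσ, ← Units.val_pow_eq_pow_val, ← Units.val_mul, ← pow_succ', ← hzord, pow_orderOf_eq_one]
    rfl
  have hg : ml F L z ∈ O (qf B) := by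
    apply mem_O_qf
    intro x y
    rw [hB, hB, ml_apply, ml_apply, map_mul σ]
    congr 1
    linear_combination (x * σ y) * hzz
  have hnorm : Algebra.norm F (z : L) = 1 := by
    have h3 : Algebra.norm F (z : L) * Algebra.norm F (ζ : L) = 1 * Algebra.norm F (ζ : L) := by
      rw [one_mul, ← map_mul (Algebra.norm F)]
      have h4 : (z : L) * ζ = σ ζ := by
        rw [hσ, ← Units.val_mul, ← pow_succ, Nat.sub_add_cancel hqd.le, Units.val_pow_eq_pow_val]
      rw [h4]
      exact Algebra.norm_eq_of_algEquiv σ _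
    exact mul_right_cancel₀ (by
      rw [Ne, Algebra.norm_eq_zero_iff]
      exact ζ.ne_zero) h3
  have hdet : LinearEquiv.det (ml F L z) = 1 := by
    apply Units.ext
    rw [det_ml, hnorm, Units.val_one]
  refine ⟨L, inferInstance, inferInstance, inferInstance, qf B, z, hfr, hQ, by rw [hzord, hq], hg, hdet, ?_⟩
  -- the spinor sign
  rcases Int.units_eq_one_or (spin (qf B) ⟨ml F L z, hg⟩) with h | h
  · exfalso
    have hprim' : ∀ m, 0 < m → (R ∣ Fintype.card F ^ m - 1 ∨ R ∣ Fintype.card F ^ m + 1) → d ∣ m := by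
      intro m _ h
      rcases h with h | h
      · exact (Nat.dvd_mul_left d 2).trans ((hprim m).1 h)
      · have h3 : R ∣ Fintype.card F ^ (2 * m) - 1 := by
          have h4 := Nat.sq_sub_sq (Fintype.card F ^ m) 1
          rw [← pow_mul, one_pow, mul_comm m 2] at h4
          rw [h4]
          exact Dvd.dvd.mul_right h _
        exact Nat.dvd_of_mul_dvd_mul_left (by norm_num) ((hprim _).1 h3)
    obtain ⟨N, hN⟩ := hRd
    have hN0 : N ≠ 0 := by
      rintro rfl
      rw [mul_zero] at hN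
      omega
    rw [← hq] at hN
    obtain ⟨μ, hμmin, hμR⟩ := exists_orb hQ (by omega : 1 ≤ d) hfr hR hR2 hprim' hg (N := N)
      (by rw [← pow_mul, mul_comm N R, ← hN, ← hzord, ← map_pow, pow_orderOf_eq_one, map_one]) (by
        intro v hv
        rw [← map_pow, ml_apply] at hv
        by_contra hv0
        have h4 : ((z ^ N : Lˣ) : L) = 1 := mul_right_cancel₀ hv0 (by rw [hv, one_mul])
        have h5 : z ^ N = 1 := Units.ext h4
        have h6 := Nat.le_of_dvd (Nat.pos_of_ne_zero hN0) (orderOf_dvd_of_pow_eq_one h5)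
        rw [hzord, hN] at h6
        have h7 := hR.two_le
        nlinarith [Nat.pos_of_ne_zero hN0])
    have h3 := Cfsg.Agent.H104.QSemiB.semi h2 hQ (by omega : 1 ≤ d) hfr ⟨hg, hdet, h⟩ hμmin hμR
    rw [orderOf_ml, hzord, ← hq] at h3
    have hqd4 : 4 ≤ q ^ d :=
      calc 4 = 2 ^ 2 := by norm_num
        _ ≤ q ^ 2 := Nat.pow_le_pow_left hq1 2
        _ ≤ q ^ d := Nat.pow_le_pow_right (by omega) hd
    rcases h3 with h3 | h3
    · have h4 := Nat.le_of_dvd (by omega) h3
      omega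
    · have h4 := Nat.le_of_dvd (by omega) h3
      omega
  · exact h

end Core

end Cfsg.Agent.H548.CV
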