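import Cfsg.Agent.H373.CV.Base
import Cfsg.Agent.H375.Odd.Groups

/-!
# S3442, row X9: `PSp_2n(q)`, `n ≥ 3`, `q` even, `r` odd (helper548; from helper375's `cov_psp`)
-/

set_option autoImplicit false

namespace Cfsg.Agent.H548.CV

open Cfsg.Agent.H373.CV

universe u v

/-- **Row X9 (second half)**: `PSp_2n(q)`, `n ≥ 3`, `q` even, `r` odd. -/
theorem hit_psp_even {F : Type v} [Field F] [Fintype F] [CharP F 2] {n : ℕ} (hn : 3 ≤ n) {r : ℕ} (hr : r.Prime)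
    (hr2 : r ≠ 2) : Hit.{u, v} r (PSp n F) := by
  intro W _ _ _ hW φ
  obtain ⟨x, a, h1, h2⟩ := Cfsg.Agent.H375.Odd.cov_psp (F := F) hn hr hr2 hW φ
  exact ⟨x, a, h1, fun y hy => h2 ⟨y, hy⟩⟩

theorem hit_psp4 {F : Type v} [Field F] [Fintype F] [CharP F 2] {r : ℕ} (hr : r.Prime) (hr2 : r ≠ 2) :
    Hit.{u, v} r (PSp 4 F) := hit_psp_even (by norm_num) hr hr2

end Cfsg.Agent.H548.CV
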